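import Cfsg.Agent.BabyU.ClosLane_m3
import Cfsg.Agent.KFacts.SheetInner
import Mathlib
import Cfsg.Prelude.Def_Spor_B
import Cfsg.Agent.BM.Fi22O_m3
import Cfsg.Agent.OddHalf.D8.MainE_m3
import Cfsg.Agent.BabyM.KLink
import Cfsg.Agent.KFacts.AutLarge
import Cfsg.Agent.BM.KHAll
import Cfsg.Agent.KFacts.CoTwo.Main
import Cfsg.Agent.BabyM.GroupInst
import Cfsg.Agent.KFacts.InnerCaseM
import Cfsg.Agent.FastGrp
import Cfsg.Agent.Prune
set_option linter.all false

section
prune_inst 0x7f00000000000000000000000000000000000000000000000000000000000000000000000000000000000000000000000000000000000000000000000000000000000000000000000000000000000000003fffffffffffffffffffffffffffbeffbdffffffff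

-- part: KFacts/Baby/Inst
section
set_option linter.all false
open scoped Cfsg.Agent.FastGrp

/-!
# The sheet of type (E) for the Baby Monster: the data of the model (helper922)

`K = ↥Inst.M.G`, `z = zz`, `Q = PP` (`2^{1+22}`), `C_K(z)/Q = K₀ ≃ Co₂`. `data inner fix : SheetInner.Data PP zz K₀`.
-/

set_option autoImplicit false

namespace Cfsg.Agent.KFacts.Baby.Inst

open Cfsg Cfsg.Agent.BabyM Cfsg.Agent.BabyM.Model Cfsg.Agent.BabyU.ClosModel Cfsg.Agent.Co2Type.Quad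
open Cfsg.Agent.KFacts.AutLarge

section

variable {W : Type} [AddCommGroup W] [Module ℚ W] {M : BData W} {K₀ : Type} [Group K₀] (A : BAll M K₀)

theorem large : Large (PP M) (zz A) where
  z_mem := zP A
  z_ne := z_ne A
  z_sq := z_sq A
  comm_z := zc A
  conj_mem := fun g hg x hx => P_norm A g (Subgroup.mem_top g) hg x hx
  sq := fun x hx => (A.grp.Q_sq x (mem_PP.1 hx)).imp (fun e => Subtype.ext e) (fun e => Subtype.ext e)
  comm := P_comm A
  cent := fun x hx hc => (A.grp.Q_center x (mem_PP.1 hx) (fun y hy => by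
    have h1 := hc ⟨y, A.C_le_G (A.grp.Q_le hy)⟩ hy
    exact congrArg Subtype.val h1)).imp (fun e => Subtype.ext e) (fun e => Subtype.ext e)
  self := fun g hg hc => mem_PP.2 (A.grp.centralizer_Q g (mem_C_of A hg) (fun y hy => by
    have h1 := hc ⟨y, A.C_le_G (A.grp.Q_le hy)⟩ hy
    exact congrArg Subtype.val h1))

theorem irr' : Irr (PP M) (zz A) := by
  intro N hN hinv
  have hconj : ∀ g ∈ M.C, ∀ x ∈ N.map M.G.subtype, g * x * g⁻¹ ∈ N.map M.G.subtype := by
    rintro g hg x ⟨y, hy, rfl⟩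
    have h1 : (⟨g, A.C_le_G hg⟩ : M.G) * zz A = zz A * ⟨g, A.C_le_G hg⟩ := Subtype.ext (A.grp.z_comm g hg)
    exact ⟨_, hinv _ h1 y hy, rfl⟩
  have hle : N.map M.G.subtype ≤ M.Q := by
    rintro x ⟨y, hy, rfl⟩
    exact mem_PP.1 (hN hy)
  rcases A.grp.Q_irred (N.map M.G.subtype) hle hconj with h1 | h1
  · left
    intro n hn
    exact (h1 n ⟨n, hn, rfl⟩).imp (fun e => Subtype.ext e) (fun e => Subtype.ext e)
  · right
    refine le_antisymm hN (fun q hq => ?_)
    have h2 : (q : W ≃ₗ[ℚ] W) ∈ N.map M.G.subtype := by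
      rw [h1]
      exact mem_PP.1 hq
    obtain ⟨y, hy, h3⟩ := h2
    have h4 : y = q := Subtype.ext h3
    rwa [h4] at hy

theorem mem_cen {g : M.G} : g ∈ Subgroup.centralizer ({zz A} : Set M.G) ↔ (g : W ≃ₗ[ℚ] W) ∈ M.C := by
  rw [Subgroup.mem_centralizer_singleton_iff]
  exact ⟨fun h => mem_C_of A h, fun h => Subtype.ext (A.grp.z_comm g h)⟩

/-- `C_K(z)` is the group `C` of the model. -/
def eC : Subgroup.centralizer ({zz A} : Set M.G) ≃* M.C where
  toFun c := ⟨((c : M.G) : W ≃ₗ[ℚ] W), (mem_cen A).1 c.2⟩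
  invFun c := ⟨⟨c, A.C_le_G c.2⟩, (mem_cen A).2 c.2⟩
  left_inv _ := rfl
  right_inv _ := rfl
  map_mul' _ _ := rfl

theorem odd_index : Odd (Subgroup.centralizer ({zz A} : Set M.G)).index := by
  have := A.finite_G
  have h1 : Nat.card (Subgroup.centralizer ({zz A} : Set M.G)) = 2 ^ 23 * 42305421312000 := by
    rw [Nat.card_congr (eC A).toEquiv, A.grp.card_C]
  have h2 := (Subgroup.centralizer ({zz A} : Set M.G)).card_mul_index
  rw [h1, A.card_G] at h2
  have h3 : (Subgroup.centralizer ({zz A} : Set M.G)).index = 11707448673375 := by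
    apply Nat.eq_of_mul_eq_mul_left (show 0 < 2 ^ 23 * 42305421312000 by norm_num)
    rw [h2]; norm_num
  rw [h3]
  decide

include A in
theorem nonab : ∃ a b : K₀, a * b ≠ b * a := by
  by_contra hcon
  push Not at hcon
  have h1 := A.grp.simple
  have h2 : Nat.card K₀ = 42305421312000 := A.grp.card
  have : Finite K₀ := Nat.finite_of_card_ne_zero (by rw [h2]; norm_num)
  let i : CommGroup K₀ := { (inferInstance : Group K₀) with mul_comm := hcon }
  have h3 : (Nat.card K₀).Prime := @IsSimpleGroup.prime_card K₀ i h1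
  rw [h2] at h3
  revert h3
  norm_num

theorem quot : ∃ π : Subgroup.centralizer ({zz A} : Set M.G) →* K₀, Function.Surjective π ∧
    ∀ c, π c = 1 ↔ (c : M.G) ∈ PP M := by
  obtain ⟨π, hπs, hπ⟩ := A.grp.quot
  refine ⟨π.comp (eC A).toMonoidHom, hπs.comp (eC A).surjective, fun c => ?_⟩
  exact hπ (eC A c)

theorem gen : ∃ n₀ : M.G, n₀ * zz A * n₀⁻¹ ∈ PP M ∧ n₀ * zz A * n₀⁻¹ ≠ zz A ∧
    Subgroup.closure ({c : M.G | c * zz A = zz A * c} ∪ {n₀}) = ⊤ := by
  refine ⟨⟨M.τ, A.τ_mem_G⟩, mem_PP.2 A.orb.τ_z, fun h => A.orb.τ_z_ne (congrArg Subtype.val h), ?_⟩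
  rw [eq_top_iff]
  set N := Subgroup.closure ({c : M.G | c * zz A = zz A * c} ∪ {⟨M.τ, A.τ_mem_G⟩}) with hN
  have h1 : M.G ≤ N.map M.G.subtype := by
    show Subgroup.closure _ ≤ _
    rw [Subgroup.closure_le]
    rintro g (hg | hg)
    · refine ⟨⟨g, A.C_le_G hg⟩, Subgroup.subset_closure (Or.inl ?_), rfl⟩
      exact Subtype.ext (A.grp.z_comm g hg)
    · rw [Set.mem_singleton_iff] at hg
      subst hg
      exact ⟨⟨M.τ, A.τ_mem_G⟩, Subgroup.subset_closure (Or.inr rfl), rfl⟩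
  rintro ⟨g, hg⟩ _
  obtain ⟨n, hn, e⟩ := h1 hg
  have : n = ⟨g, hg⟩ := Subtype.ext e
  rwa [this] at hn

end

/-! ### A conjugate of `z` in `C_K(z)` outside `Q` -/

open Cfsg.Agent.Monster.PauliBasic Cfsg.Agent.Monster.PauliBits Cfsg.Agent.Monster.PauliClif Cfsg.Agent.BabyM.Conc
open Cfsg.Agent.BabyM.KTab Cfsg.Agent.BabyM.KRow Cfsg.Agent.BabyM.KRowData Cfsg.Agent.BabyM.QAct Cfsg.Agent.BabyU.ClosLane

theorem mulK_dec (m n : ℕ) : dec 11 (mulK m n) = dec 11 m * dec 11 n := by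
  rw [mulK_eq, dec_mulN (by norm_num)]

theorem form_zero {m n : ℕ} (h : Nat.beq (mulK m n) (mulK n m) = true) : Pauli.form (dec 11 m) (dec 11 n) = 0 := by
  rw [← Pauli.commute_iff, ← mulK_dec, ← mulK_dec, Nat.eq_of_beq_eq_true h]

theorem form_one {m n : ℕ} (h : Nat.beq (Nat.xor (mulK m n) 0x400000) (mulK n m) = true) :
    Pauli.form (dec 11 m) (dec 11 n) ≠ 0 := by
  rw [Ne, ← Pauli.commute_iff, ← mulK_dec, ← mulK_dec, ← Nat.eq_of_beq_eq_true h]
  intro e
  have h1 : bit (mulK m n) 22 = bit (mulK m n ^^^ 0x400000) 22 := congrArg Pauli.s e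
  rw [bit_xor] at h1
  have h2 : bit 0x400000 22 = 1 := by rw [bit_eq_one_iff]; decide
  rw [h2] at h1
  revert h1
  generalize bit (mulK m n) 22 = a
  revert a; decide

theorem form_of {m n : ℕ} {x y : Pauli 11} (hx : ab x = v m) (hy : ab y = v n) :
    Pauli.form x y = Pauli.form (dec 11 m) (dec 11 n) := by
  rw [form_congr x (show ab y = ab (dec 11 n) from hy), form_comm, form_congr _ (show ab x = ab (dec 11 m) from hx),
    form_comm]

/-- `z' = τ z τ⁻¹ = Z₁₀`. -/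
theorem z'_eq : Inst.M.τ * Inst.M.z * Inst.M.τ⁻¹ = Cd.R (dec 11 0x400) := by
  rw [show Inst.M.τ * Inst.M.z * Inst.M.τ⁻¹ = E .Z10 from ConcGrp.τ_z_eq, KQ.E_Z10]

theorem act_a : Act (E .p * E .xi) 0x400 0x67c :=
  Act.mul (m := 0x4ea) (act_p (by decide +kernel)) (act_of KRelXi.rel_xi (by decide +kernel))

theorem act_b : Act (E .xi * (E .h * E .xi)) 0x400 0x1ef8d4 :=
  Act.mul (m := 0x572) (act_of KRelXi.rel_xi (by decide +kernel))
    (Act.mul (m := 0x4ea) (act_of KRelP.rel_h (by decide +kernel)) (act_of KRelXi.rel_xi (by decide +kernel)))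

theorem out : ∃ k : Inst.M.G, (k * zz A * k⁻¹) * zz A = zz A * (k * zz A * k⁻¹) ∧ k * zz A * k⁻¹ ∉ PP Inst.M := by
  obtain ⟨ya, hya, ea⟩ := act_a (dec 11 0x400) rfl
  obtain ⟨yb, hyb, eb⟩ := act_b (dec 11 0x400) rfl
  have hτ : Inst.M.τ ∈ Inst.M.G := A.τ_mem_G
  have hga : E .p * E .xi ∈ Inst.M.G := A.C_le_G (mul_mem (ConcGrp.mem_C rfl) (ConcGrp.mem_C rfl))
  have hgb : E .xi * (E .h * E .xi) ∈ Inst.M.G :=
    A.C_le_G (mul_mem (ConcGrp.mem_C rfl) (mul_mem (ConcGrp.mem_C rfl) (ConcGrp.mem_C rfl)))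
  have hR : ∀ x, Cd.R x ∈ Inst.M.G := fun x => A.C_le_G (A.grp.Q_le (R_mem_Q x))
  have hcomm : ∀ {x y : Pauli 11}, Pauli.form x y = 0 → Cd.R x * Cd.R y = Cd.R y * Cd.R x := fun {x y} h => by
    rw [← map_mul, ← map_mul, (Pauli.commute_iff x y).2 h]
  have e1 : ∀ g : V ≃ₗ[ℚ] V, g * (Inst.M.τ * Inst.M.z * Inst.M.τ⁻¹) * g⁻¹ = (g * Inst.M.τ) * Inst.M.z * (g * Inst.M.τ)⁻¹ :=
    fun g => by group
  refine LargeE.exists_outside (large A) (g := ⟨Inst.M.τ, hτ⟩) (a := ⟨Cd.R ya, hR ya⟩) (b := ⟨Cd.R yb, hR yb⟩)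
    ⟨⟨(E .p * E .xi) * Inst.M.τ, mul_mem hga hτ⟩, Subtype.ext ?_⟩
    ⟨⟨(E .xi * (E .h * E .xi)) * Inst.M.τ, mul_mem hgb hτ⟩, Subtype.ext ?_⟩
    (Subtype.ext ?_) (Subtype.ext ?_) (mem_PP.2 (R_mem_Q ya)) (mem_PP.2 (R_mem_Q yb)) ?_ ?_
  · show (E .p * E .xi) * Inst.M.τ * Inst.M.z * ((E .p * E .xi) * Inst.M.τ)⁻¹ = Cd.R ya
    rw [← e1, z'_eq, ea]
  · show (E .xi * (E .h * E .xi)) * Inst.M.τ * Inst.M.z * ((E .xi * (E .h * E .xi)) * Inst.M.τ)⁻¹ = Cd.R yb
    rw [← e1, z'_eq, eb]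
  · show (Inst.M.τ * Inst.M.z * Inst.M.τ⁻¹) * Cd.R ya = Cd.R ya * (Inst.M.τ * Inst.M.z * Inst.M.τ⁻¹)
    rw [z'_eq]
    exact hcomm ((form_of rfl hya).trans (form_zero (by decide +kernel)))
  · show (Inst.M.τ * Inst.M.z * Inst.M.τ⁻¹) * Cd.R yb = Cd.R yb * (Inst.M.τ * Inst.M.z * Inst.M.τ⁻¹)
    rw [z'_eq]
    exact hcomm ((form_of rfl hyb).trans (form_zero (by decide +kernel)))
  · intro e
    exact A.orb.τ_z_ne (congrArg Subtype.val e)
  · intro e
    have e2 : Cd.R ya * Cd.R yb = Cd.R yb * Cd.R ya := congrArg Subtype.val e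
    rw [← map_mul, ← map_mul] at e2
    have e3 := (Pauli.commute_iff ya yb).1 (Cd.R_injective e2)
    rw [form_of hya hyb] at e3
    exact form_one (by decide +kernel) e3

end Cfsg.Agent.KFacts.Baby.Inst
end

-- part: KFacts/Baby/Sheet
section
set_option linter.all false
open scoped Cfsg.Agent.FastGrp

/-!
# The sheet of type (E) for the Baby Monster (helper922)

`Inner` : every automorphism of `Co₂ = C_K(z)/Q` is inner; `Fix` : the stabiliser of some vector of `Q/⟨z⟩` fixes no other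
vector. `sheet_of_isoB : Inner → Fix → IsoB K → ∃ z P R, SheetE z P R` for simple `K`.
-/

set_option autoImplicit false

namespace Cfsg.Agent.KFacts.Baby.Sheet

open Cfsg Cfsg.Agent.BabyM Cfsg.Agent.BabyM.Model Cfsg.Agent.BabyU.ClosModel Cfsg.Agent.KFacts.AutLarge
open Cfsg.Agent.BabyU.ClosLane Cfsg.Agent.OddHalf.D8.Sheet

/-- every automorphism of `C_K(z)/Q` is inner -/
def Inner : Prop := ∀ α : MulAut GroupInst.K₀, ∃ g : GroupInst.K₀, α = MulAut.conj g

/-- the field `fix` of `SheetInner.Data` -/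
def Fix : Prop := ∃ x₀ ∈ PP Inst.M, x₀ ≠ 1 ∧ x₀ ≠ zz A ∧ ∀ y ∈ PP Inst.M,
  (∀ c : Inst.M.G, c * zz A = zz A * c → Eqz (zz A) (c * x₀ * c⁻¹) x₀ → Eqz (zz A) (c * y * c⁻¹) y) →
    Eqz (zz A) y 1 ∨ Eqz (zz A) y x₀

/-- **The data for the model.** -/
theorem data (hi : Inner) (hf : Fix) : SheetInner.Data (PP Inst.M) (zz A) GroupInst.K₀ where
  large := Baby.Inst.large A
  irr := Baby.Inst.irr' A
  odd := Baby.Inst.odd_index A
  simple := A.grp.simple
  nonab := Baby.Inst.nonab A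
  quot := Baby.Inst.quot A
  inner := hi
  gen := Baby.Inst.gen A
  fix := hf
  out := Baby.Inst.out

theorem sheet (hi : Inner) (hf : Fix) :
    SheetE (zz A) (Subgroup.centralizer ({zz A} : Set Inst.M.G)) (PP Inst.M) :=
  have := A.finite_G
  (data hi hf).sheet

/-- The presented group is the model if it is simple. -/
theorem exists_iso [IsSimpleGroup Spor.BabyMonster] : Nonempty (Spor.BabyMonster ≃* Inst.M.G) := by
  have hs : Function.Surjective (BM.StageW.hom Instance.all Instance.ok) :=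
    BM.StageW.hom_surjective Instance.all Instance.ok (BM.StageWSurj.closure_x Instance.all Instance.ok)
  have hi : Function.Injective (BM.StageW.hom Instance.all Instance.ok) := by
    rw [← MonoidHom.ker_eq_bot_iff]
    rcases (inferInstance : (BM.StageW.hom Instance.all Instance.ok).ker.Normal).eq_bot_or_eq_top with h | h
    · exact h
    · exfalso
      have h1 := Instance.all.simple
      obtain ⟨x, hx⟩ := exists_ne (1 : Inst.M.G)
      obtain ⟨y, rfl⟩ := hs x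
      apply hx
      have : y ∈ (BM.StageW.hom Instance.all Instance.ok).ker := by rw [h]; exact Subgroup.mem_top _
      exact this
  exact ⟨MulEquiv.ofBijective _ ⟨hi, hs⟩⟩

/-- A simple group isomorphic to the Baby Monster is isomorphic to the model. -/
theorem exists_iso_of_isoB {K : Type*} [Group K] [IsSimpleGroup K] (h : Spor.IsoB K) :
    Nonempty (Inst.M.G ≃* K) := by
  obtain ⟨e⟩ := h
  have : IsSimpleGroup Spor.BabyMonster := e.symm.isSimpleGroup
  obtain ⟨f⟩ := exists_iso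
  exact ⟨(e.trans f).symm⟩

/-- **The sheet for a simple group isomorphic to the Baby Monster.** -/
theorem sheet_of_isoB (hi : Inner) (hf : Fix) {K : Type*} [Group K] [IsSimpleGroup K] (h : Spor.IsoB K) :
    ∃ (z : K) (P R : Subgroup K), SheetE z P R := by
  obtain ⟨e⟩ := exists_iso_of_isoB h
  exact ⟨_, _, _, SheetIso.sheetE_map e (sheet hi hf)⟩

/-- every automorphism of a simple group isomorphic to the Baby Monster is inner -/
theorem allInner_of_isoB (hi : Inner) (hf : Fix) {K : Type*} [Group K] [IsSimpleGroup K] (h : Spor.IsoB K)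
    (α : MulAut K) : ∃ k : K, α = MulAut.conj k := by
  obtain ⟨e⟩ := exists_iso_of_isoB h
  have := A.finite_G
  obtain ⟨k, hk⟩ := (data hi hf).allInner ((e.trans α).trans e.symm)
  refine ⟨e k, ?_⟩
  ext x
  have h1 := congrArg e (DFunLike.congr_fun hk (e.symm x))
  rw [MulAut.conj_apply, map_mul, map_mul, map_inv] at h1
  simpa using h1

end Cfsg.Agent.KFacts.Baby.Sheet
end

-- part: KFacts/Baby/Row
section
set_option linter.all false
open scoped Cfsg.Agent.FastGrp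

-- merged: Cfsg.Agent.KFacts.Baby.Fix
section

/-!
# The Baby Monster model: a one-dimensional fixed space (helper235)

The group generated by the letters `y1, …, y10` of `C = 2^{1+22}.Co₂` fixes only `0` and the class of `x₀ = Z_10` in `Q/⟨z⟩`. So the
stabiliser of `x₀` modulo `z` fixes only `1`, `x₀` modulo `z` (`fix`); the same for `↥Inst.M.G` in the form of
`KFacts/SheetInner.lean` (`fix_G`).
-/

set_option autoImplicit false

namespace Cfsg.Agent.KFacts.Baby.Fix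

open Cfsg.Agent.Monster Cfsg.Agent.Monster.VecEngine Cfsg.Agent.Monster.VecSpace
open Cfsg.Agent.Monster.PauliBasic Cfsg.Agent.Monster.PauliRep Cfsg.Agent.Monster.PauliClif Cfsg.Agent.Monster.PauliBits
open Cfsg.Agent.BabyM Cfsg.Agent.BabyM.QAct Cfsg.Agent.BabyM.QData Cfsg.Agent.BabyM.KRowData
open Cfsg.Agent.BabyM.Conc Cfsg.Agent.BabyM.KTab Cfsg.Agent.BabyM.KRow Cfsg.Agent.BabyM.KQ
open Cfsg.Agent.KFacts.AutLarge Cfsg.Agent.Monster.PauliGates

/-! ### the letters -/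

/-- the letters `y1, …, y10` -/
def yl : ℕ → Ltr
  | 0 => .y1
  | 1 => .y2
  | 2 => .y3
  | 3 => .y4
  | 4 => .y5
  | 5 => .y6
  | 6 => .y7
  | 7 => .y8
  | 8 => .y9
  | _ => .y10

/-- their tables -/
noncomputable def II : ℕ → ℕ
  | 0 => I_y1
  | 1 => I_y2
  | 2 => I_y3
  | 3 => I_y4
  | 4 => I_y5
  | 5 => I_y6
  | 6 => I_y7
  | 7 => I_y8
  | 8 => I_y9
  | _ => I_y10

theorem rel (l : ℕ) (hl : l < 10) :
    ∀ k < 22, E (yl l) * Cd.R (dec 11 (2 ^ k)) = Cd.R (dec 11 (im (II l) k)) * E (yl l) := by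
  interval_cases l
  · exact KRelY1.rel_y1
  · exact KRelY1.rel_y2
  · exact KRelY1.rel_y3
  · exact KRelY1.rel_y4
  · exact KRelY1.rel_y5
  · exact KRelY2.rel_y6
  · exact KRelY2.rel_y7
  · exact KRelY2.rel_y8
  · exact KRelY2.rel_y9
  · exact KRelY2.rel_y10

theorem yl_mem (l : ℕ) (hl : l < 10) : E (yl l) ∈ Inst.M.C := by
  have h : (yl l).isC = true := by interval_cases l <;> rfl
  exact Subgroup.subset_closure ⟨yl l, h, rfl⟩

/-! ### the form in codes -/

theorem form_xor (Y : Pauli 11) (a b : ℕ) :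
    Pauli.form Y (dec 11 (a ^^^ b)) = Pauli.form Y (dec 11 a) + Pauli.form Y (dec 11 b) := by
  have h1 : (dec 11 (a ^^^ b)).a = (dec 11 a).a + (dec 11 b).a := by
    funext i
    exact bit_xor a b _
  have h2 : (dec 11 (a ^^^ b)).b = (dec 11 a).b + (dec 11 b).b := by
    funext i
    exact bit_xor a b _
  unfold Pauli.form
  rw [h1, h2, dotProduct_add, add_dotProduct]
  ring

theorem form_zero_code (Y : Pauli 11) : Pauli.form Y (dec 11 0) = 0 := by
  have h1 : (dec 11 0).a = 0 := by funext i; exact bit_zero _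
  have h2 : (dec 11 0).b = 0 := by funext i; exact bit_zero _
  unfold Pauli.form
  rw [h1, h2, dotProduct_zero, zero_dotProduct, add_zero]

theorem form_z_code (Y : Pauli 11) : Pauli.form Y (dec 11 0x400000) = 0 := by
  rw [dec_z, QAct.form_comm]
  exact QAct.form_z_left Y

/-- The sum of the elements `X_k + (X_k)^{y_l}`, `(l, k) ∈ L`. -/
noncomputable def acc (L : List (ℕ × ℕ)) : ℕ :=
  L.foldr (fun p r => (2 ^ p.2 ^^^ im (II p.1) p.2) ^^^ r) 0

theorem form_acc (Y : Pauli 11) (h : ∀ l < 10, ∀ k < 22, Pauli.form Y (dec 11 (2 ^ k ^^^ im (II l) k)) = 0)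
    (L : List (ℕ × ℕ)) (hL : ∀ p ∈ L, p.1 < 10 ∧ p.2 < 22) : Pauli.form Y (dec 11 (acc L)) = 0 := by
  induction L with
  | nil => exact form_zero_code Y
  | cons p L ih =>
    show Pauli.form Y (dec 11 ((2 ^ p.2 ^^^ im (II p.1) p.2) ^^^ acc L)) = 0
    rw [form_xor, h p.1 (hL p (List.mem_cons_self ..)).1 p.2 (hL p (List.mem_cons_self ..)).2,
      ih (fun q hq => hL q (List.mem_cons_of_mem _ hq)), add_zero]

/-- the certificate -/
def cert : ℕ → List (ℕ × ℕ)
  | 0 => [(1, 20), (3, 18)]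
  | 1 => [(0, 13), (6, 18)]
  | 2 => [(0, 19), (1, 16)]
  | 3 => [(0, 16), (4, 19)]
  | 4 => [(0, 19), (6, 18)]
  | 5 => [(1, 19), (3, 18)]
  | 6 => [(0, 18), (3, 15)]
  | 7 => [(0, 12), (0, 16), (1, 15)]
  | 8 => [(0, 15), (3, 16), (6, 20)]
  | 9 => [(0, 13), (6, 19)]
  | 10 => [(0, 0)]
  | 11 => [(0, 21)]
  | 12 => [(1, 21)]
  | 13 => [(0, 13), (2, 21), (6, 18)]
  | 14 => [(3, 21)]
  | 15 => [(4, 21)]
  | 16 => [(0, 16), (4, 19), (5, 21)]
  | 17 => [(0, 19), (6, 18), (6, 21)]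
  | 18 => [(7, 21)]
  | 19 => [(8, 21)]
  | _ => [(1, 20), (3, 18), (9, 21)]

theorem cert_ok (i : ℕ) (hi : i < 21) :
    (∀ p ∈ cert i, p.1 < 10 ∧ p.2 < 22) ∧ (acc (cert i) = 2 ^ i ∨ acc (cert i) = 2 ^ i ^^^ 0x400000) := by
  interval_cases i <;> exact ⟨by decide, by decide +kernel⟩

theorem form_two_pow (Y : Pauli 11) (h : ∀ l < 10, ∀ k < 22, Pauli.form Y (dec 11 (2 ^ k ^^^ im (II l) k)) = 0)
    {i : ℕ} (hi : i < 21) : Pauli.form Y (dec 11 (2 ^ i)) = 0 := by
  obtain ⟨h1, h2⟩ := cert_ok i hi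
  have h3 := form_acc Y h (cert i) h1
  rcases h2 with h2 | h2
  · rwa [h2] at h3
  · rw [h2, form_xor, form_z_code, add_zero] at h3
    exact h3

/-- An element orthogonal to all generators but `X_10` is `1` or `Z_10` modulo `z`. -/
theorem ab_of_form (Y : Pauli 11) (h : ∀ i < 21, Pauli.form Y (dec 11 (2 ^ i)) = 0) :
    ab Y = 0 ∨ ab Y = ab (dec 11 (2 ^ 10)) := by
  have ha : Y.a = 0 := by
    funext i
    have h1 := h i.1 (by have := i.2; omega)
    rw [dec_Z] at h1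
    unfold Pauli.form at h1
    have e : (⟨0, 0, dl i⟩ : Pauli 11).a = 0 := rfl
    have e2 : (⟨0, 0, dl i⟩ : Pauli 11).b = dl i := rfl
    rw [e, e2, dotProduct_zero, zero_add] at h1
    have h2 : dl i ⬝ᵥ Y.a = Y.a i := by
      unfold dl
      rw [single_dotProduct, one_mul]
    rw [h2] at h1
    exact h1
  have hb : ∀ i : Fin 11, i.1 ≠ 10 → Y.b i = 0 := by
    intro i hi
    have h1 := h (11 + i.1) (by have := i.2; omega)
    rw [dec_X] at h1
    unfold Pauli.form at h1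
    have e : (⟨0, dl i, 0⟩ : Pauli 11).a = dl i := rfl
    have e2 : (⟨0, dl i, 0⟩ : Pauli 11).b = 0 := rfl
    rw [e, e2, zero_dotProduct, add_zero] at h1
    have h2 : Y.b ⬝ᵥ dl i = Y.b i := by
      unfold dl
      rw [dotProduct_single, mul_one]
    rw [h2] at h1
    exact h1
  have hd : dec 11 (2 ^ 10) = ⟨0, 0, dl (10 : Fin 11)⟩ := dec_Z (n := 11) 10
  rcases zmod2_cases (Y.b 10) with h1 | h1
  · left
    refine Prod.ext ha ?_
    funext i
    by_cases hi : i.1 = 10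
    · have : i = 10 := Fin.ext hi
      rw [this]; exact h1
    · exact hb i hi
  · right
    rw [hd]
    refine Prod.ext ha ?_
    funext i
    show Y.b i = dl (10 : Fin 11) i
    by_cases hi : i.1 = 10
    · have : i = 10 := Fin.ext hi
      rw [this, h1]; simp [dl]
    · rw [hb i hi]
      have : i ≠ 10 := fun e => hi (by rw [e]; rfl)
      simp [dl, this]

/-! ### the fixed space -/

theorem comm_iff (Y X : Pauli 11) : Cd.R Y * Cd.R X = Cd.R X * Cd.R Y ↔ Pauli.form Y X = 0 := by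
  rw [← map_mul, ← map_mul, Cd.R_injective.eq_iff]
  have h := Pauli.mul_eq_mul_mul_form Y X
  rcases zmod2_cases (Pauli.form Y X) with h1 | h1
  · rw [h1] at h
    refine ⟨fun _ => h1, fun _ => ?_⟩
    rw [h]
    have : (⟨0, 0, 0⟩ : Pauli 11) = 1 := rfl
    rw [this, one_mul]
  · constructor
    · intro h2
      exfalso
      rw [h1, h2] at h
      have h3 : (⟨1, 0, 0⟩ : Pauli 11) = 1 := (right_eq_mul₀' h)
      have h4 := congrArg Pauli.s h3
      exact absurd h4 (by decide)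
    · intro h2
      rw [h1] at h2
      exact absurd h2 (by decide)
where
  right_eq_mul₀' {a b : Pauli 11} (h : b = a * b) : a = 1 := by
    have := congrArg (· * b⁻¹) h
    simpa using this.symm

theorem z_eq : Inst.M.z = Cd.R (Pauli.z 11) := KLink.link.z_eq

theorem comm_z (Y : Pauli 11) : Cd.R Y * Inst.M.z = Inst.M.z * Cd.R Y := by
  rw [z_eq, comm_iff, QAct.form_comm]
  exact QAct.form_z_left Y

/-- If `y` is fixed modulo `z` by the letter `y_l`, it is orthogonal to the `X_k + (X_k)^{y_l}`. -/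
theorem form_of_fix {l : ℕ} (hl : l < 10) {Y : Pauli 11}
    (h : E (yl l) * Cd.R Y * (E (yl l))⁻¹ = Cd.R Y ∨ E (yl l) * Cd.R Y * (E (yl l))⁻¹ = Cd.R Y * Inst.M.z)
    {k : ℕ} (hk : k < 22) : Pauli.form Y (dec 11 (2 ^ k ^^^ im (II l) k)) = 0 := by
  set c := E (yl l) with hc
  have hr : c * Cd.R (dec 11 (2 ^ k)) * c⁻¹ = Cd.R (dec 11 (im (II l) k)) := by
    rw [rel l hl k hk, mul_inv_cancel_right]
  -- commutation is preserved
  have hcz : c * Inst.M.z = Inst.M.z * c := KLink.link.z_comm c (yl_mem l hl)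
  have key : Cd.R Y * Cd.R (dec 11 (2 ^ k)) = Cd.R (dec 11 (2 ^ k)) * Cd.R Y ↔
      Cd.R Y * Cd.R (dec 11 (im (II l) k)) = Cd.R (dec 11 (im (II l) k)) * Cd.R Y := by
    have e1 : Cd.R Y * Cd.R (dec 11 (2 ^ k)) = Cd.R (dec 11 (2 ^ k)) * Cd.R Y ↔
        (c * Cd.R Y * c⁻¹) * (c * Cd.R (dec 11 (2 ^ k)) * c⁻¹) =
          (c * Cd.R (dec 11 (2 ^ k)) * c⁻¹) * (c * Cd.R Y * c⁻¹) := by
      have a1 : (c * Cd.R Y * c⁻¹) * (c * Cd.R (dec 11 (2 ^ k)) * c⁻¹) =
        c * (Cd.R Y * Cd.R (dec 11 (2 ^ k))) * c⁻¹ := by group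
      have a2 : (c * Cd.R (dec 11 (2 ^ k)) * c⁻¹) * (c * Cd.R Y * c⁻¹) =
        c * (Cd.R (dec 11 (2 ^ k)) * Cd.R Y) * c⁻¹ := by group
      rw [a1, a2]
      exact ⟨fun h => by rw [h], fun h => mul_left_cancel (mul_right_cancel h)⟩
    rw [e1, hr]
    rcases h with h | h
    · rw [h]
    · rw [h]
      have b1 : Cd.R Y * Inst.M.z * Cd.R (dec 11 (im (II l) k)) =
          Cd.R Y * Cd.R (dec 11 (im (II l) k)) * Inst.M.z := by
        rw [mul_assoc, ← comm_z, ← mul_assoc]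
      have b2 : Cd.R (dec 11 (im (II l) k)) * (Cd.R Y * Inst.M.z) =
          Cd.R (dec 11 (im (II l) k)) * Cd.R Y * Inst.M.z := (mul_assoc _ _ _).symm
      rw [b1, b2]
      exact ⟨fun h => mul_right_cancel h, fun h => by rw [h]⟩
  rw [comm_iff, comm_iff] at key
  rw [form_xor]
  rcases zmod2_cases (Pauli.form Y (dec 11 (2 ^ k))) with h1 | h1
  · rw [h1, key.1 h1, add_zero]
  · rcases zmod2_cases (Pauli.form Y (dec 11 (im (II l) k))) with h2 | h2
    · rw [key.2 h2] at h1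
      exact absurd h1 (by decide)
    · rw [h1, h2]; decide

/-- the vector `x₀ = Z_10` -/
noncomputable def x₀ : V ≃ₗ[ℚ] V := Cd.R (dec 11 (2 ^ 10))

theorem x₀_mem : x₀ ∈ Inst.M.Q := KLink.link.mem_Q.2 ⟨_, rfl⟩

theorem ab_ten : ab (dec 11 (2 ^ 10)) ≠ 0 := by
  intro h
  exact absurd ((ab_dec_eq_zero (by norm_num)).1 h) (by norm_num)

/-- elements of `Q` with the same class -/
theorem eq_or_of_ab {Y Y' : Pauli 11} (h : ab Y = ab Y') : Cd.R Y = Cd.R Y' ∨ Cd.R Y = Cd.R Y' * Inst.M.z := by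
  rcases (ab_eq_iff Y Y').1 h with h1 | h1
  · left; rw [h1]
  · right
    rw [h1, map_mul, ← z_eq]
    exact (comm_z Y').symm

theorem x₀_ne : x₀ ≠ 1 := by
  intro h
  have h1 : dec 11 (2 ^ 10) = 1 := Cd.R_injective (by rw [map_one]; exact h)
  exact ab_ten (by rw [h1]; rfl)

theorem x₀_ne_z : x₀ ≠ Inst.M.z := by
  intro h
  have h1 : dec 11 (2 ^ 10) = Pauli.z 11 := Cd.R_injective (by rw [← z_eq]; exact h)
  exact ab_ten (by rw [h1]; rfl)

theorem im_ten (l : ℕ) (hl : l < 10) : im (II l) 10 = 2 ^ 10 ∨ im (II l) 10 = 2 ^ 10 ^^^ 0x400000 := by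
  interval_cases l <;> decide +kernel

theorem ab_im_ten (l : ℕ) (hl : l < 10) : ab (dec 11 (im (II l) 10)) = ab (dec 11 (2 ^ 10)) := by
  rcases im_ten l hl with h | h
  · rw [h]
  · rw [h]
    refine Prod.ext ?_ ?_
    · funext i
      show bit (2 ^ 10 ^^^ 0x400000) (11 + i.1) = bit (2 ^ 10) (11 + i.1)
      have h22 : bit 0x400000 (11 + i.1) = 0 := by
        have hi := i.2
        have : (0x400000 : ℕ) = 1 <<< 22 := by decide
        rw [this, bit_shiftLeft, if_neg (by omega)]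
      rw [bit_xor, h22, add_zero]
    · funext i
      show bit (2 ^ 10 ^^^ 0x400000) i.1 = bit (2 ^ 10) i.1
      have h22 : bit 0x400000 i.1 = 0 := by
        have hi := i.2
        have : (0x400000 : ℕ) = 1 <<< 22 := by decide
        rw [this, bit_shiftLeft, if_neg (by omega)]
      rw [bit_xor, h22, add_zero]

/-- the letters `y_l` fix `x₀` modulo `z` -/
theorem x₀_fix (l : ℕ) (hl : l < 10) :
    E (yl l) * x₀ * (E (yl l))⁻¹ = x₀ ∨ E (yl l) * x₀ * (E (yl l))⁻¹ = x₀ * Inst.M.z := by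
  have h : E (yl l) * x₀ * (E (yl l))⁻¹ = Cd.R (dec 11 (im (II l) 10)) := by
    show E (yl l) * Cd.R (dec 11 (2 ^ 10)) * (E (yl l))⁻¹ = _
    rw [rel l hl 10 (by norm_num), mul_inv_cancel_right]
  rw [h]
  exact eq_or_of_ab (ab_im_ten l hl)

/-- **The stabiliser of `x₀` modulo `z` fixes only `1`, `x₀` modulo `z`.** -/
theorem fix (y : V ≃ₗ[ℚ] V) (hy : y ∈ Inst.M.Q)
    (h : ∀ c ∈ Inst.M.C, (c * x₀ * c⁻¹ = x₀ ∨ c * x₀ * c⁻¹ = x₀ * Inst.M.z) →
      (c * y * c⁻¹ = y ∨ c * y * c⁻¹ = y * Inst.M.z)) :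
    (y = 1 ∨ y = 1 * Inst.M.z) ∨ (y = x₀ ∨ y = x₀ * Inst.M.z) := by
  obtain ⟨Y, rfl⟩ := KLink.link.mem_Q.1 hy
  rcases ab_of_form Y (fun i hi => form_two_pow Y (fun l hl k hk =>
    form_of_fix hl (h _ (yl_mem l hl) (x₀_fix l hl)) hk) hi) with h1 | h1
  · left
    rw [← map_one Cd.R]
    exact eq_or_of_ab (by rw [h1]; rfl)
  · right
    exact eq_or_of_ab h1

/-- The form of `KFacts/SheetInner.lean`. -/
theorem fix_G (hG : Inst.M.C ≤ Inst.M.G) (z : Inst.M.G) (hz : (z : V ≃ₗ[ℚ] V) = Inst.M.z) :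
    ∃ x ∈ Inst.M.Q.subgroupOf Inst.M.G, x ≠ 1 ∧ x ≠ z ∧
      ∀ y ∈ Inst.M.Q.subgroupOf Inst.M.G, (∀ c : Inst.M.G, c * z = z * c → Eqz z (c * x * c⁻¹) x →
        Eqz z (c * y * c⁻¹) y) → Eqz z y 1 ∨ Eqz z y x := by
  refine ⟨⟨x₀, hG (KLink.link.Q_le x₀_mem)⟩, x₀_mem, fun e => x₀_ne (congrArg Subtype.val e),
    fun e => x₀_ne_z ((congrArg Subtype.val e).trans hz), ?_⟩
  intro y hy h
  have h1 := fix (y : V ≃ₗ[ℚ] V) hy (by
    intro c hc hcx
    have h2 := h ⟨c, hG hc⟩ (Subtype.ext (by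
      show c * (z : V ≃ₗ[ℚ] V) = (z : V ≃ₗ[ℚ] V) * c
      rw [hz]
      exact KLink.link.z_comm c hc)) (hcx.imp (fun e => Subtype.ext e) (fun e => Subtype.ext (by
        show c * x₀ * c⁻¹ = x₀ * (z : V ≃ₗ[ℚ] V)
        rw [hz]; exact e)))
    refine h2.imp (fun e => congrArg Subtype.val e) (fun e => ?_)
    have h3 : c * (y : V ≃ₗ[ℚ] V) * c⁻¹ = (y : V ≃ₗ[ℚ] V) * (z : V ≃ₗ[ℚ] V) := congrArg Subtype.val e
    rw [hz] at h3
    exact h3)
  refine h1.imp (fun h2 => h2.imp (fun e => Subtype.ext e) (fun e => Subtype.ext ?_))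
    (fun h2 => h2.imp (fun e => Subtype.ext e) (fun e => Subtype.ext ?_))
  · show (y : V ≃ₗ[ℚ] V) = 1 * (z : V ≃ₗ[ℚ] V)
    rw [hz]; exact e
  · show (y : V ≃ₗ[ℚ] V) = x₀ * (z : V ≃ₗ[ℚ] V)
    rw [hz]; exact e

end Cfsg.Agent.KFacts.Baby.Fix

end

-- merged: Cfsg.Agent.KFacts.Baby.Row
section

/-!
# ODD half, D8: the row of the Baby Monster (helper922)

`fix` : the field `fix` (helper235). `sheet_iso`: the sheet for a simple group isomorphic to the Baby Monster, with the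
isomorphism. `row`, `row_of`: the row, given `Inner` and that `Spor.BabyMonster` is simple.
-/

set_option autoImplicit false

namespace Cfsg.Agent.KFacts.Baby.Row

open Cfsg Cfsg.Agent.BabyM Cfsg.Agent.BabyM.Model Cfsg.Agent.BabyU.ClosModel
open Cfsg.Agent.BabyU.ClosLane Cfsg.Agent.OddHalf Cfsg.Agent.OddHalf.D8.Sheet Cfsg.Agent.KFacts.Baby.Sheet

universe u

theorem fix : Fix := Baby.Fix.fix_G A.C_le_G (zz A) rfl

/-- the sheet for the model -/
theorem sheet_model (hi : Inner) :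
    SheetE (zz A) (Subgroup.centralizer ({zz A} : Set Inst.M.G)) (PP Inst.M) := Sheet.sheet hi fix

/-- **The row of the Baby Monster.** -/
theorem row (hi : Inner) (hB : IsSimpleGroup Spor.BabyMonster) (hF : D8.MainE.FrontOuter.{u})
    (hM : D8.MainE.NoComponent.{u}) : D8.Rows.Row.{u} (fun K _ => Spor.IsoB K) :=
  D8.MainE.row hF hM fun K _ _ hK => by
    have hs : IsSimpleGroup K := hK.elim fun e => e.isSimpleGroup
    exact sheet_of_isoB hi fix hK

/-- **The row of the Baby Monster**, for a property of the sheet that is invariant under isomorphism. -/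
theorem row_of {Y : (K : Type u) → [Group K] → K → Subgroup K → Subgroup K → Prop} (hi : Inner)
    (hB : IsSimpleGroup Spor.BabyMonster) (hM : D8.MainE.NoComp.{u} Y)
    (hY : ∀ (K : Type u) [Group K] (e : Inst.M.G ≃* K),
      Y K (e (zz A)) ((Subgroup.centralizer ({zz A} : Set Inst.M.G)).map (e : Inst.M.G →* K))
        ((PP Inst.M).map (e : Inst.M.G →* K))) : D8.Rows.Row.{u} (fun K _ => Spor.IsoB K) :=
  D8.MainE.row_of hM fun K _ _ hK => by
    have hs : IsSimpleGroup K := hK.elim fun e => e.isSimpleGroup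
    obtain ⟨e⟩ := exists_iso_of_isoB hK
    exact ⟨_, _, _, SheetIso.sheetE_map e (sheet_model hi), hY K e⟩

end Cfsg.Agent.KFacts.Baby.Row

end
end

-- part: KFacts/Baby/RowB
section
set_option linter.all false

/-!
# ODD half, D8: the row of the Baby Monster, with S1704 plugged in (helper922)
-/

set_option autoImplicit false

namespace Cfsg.Agent.KFacts.Baby.RowB

open Cfsg Cfsg.Agent.BabyM Cfsg.Agent.BabyM.Model Cfsg.Agent.BabyU.ClosModel
open Cfsg.Agent.BabyU.ClosLane Cfsg.Agent.OddHalf Cfsg.Agent.OddHalf.D8.Sheet Cfsg.Agent.KFacts.Baby.Sheet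

universe u

theorem simple_B : IsSimpleGroup Spor.BabyMonster := BM.KHAll.isB.1

/-- A group isomorphic to the Baby Monster is isomorphic to the model. -/
theorem exists_iso {K : Type*} [Group K] (h : Spor.IsoB K) : Nonempty (Inst.M.G ≃* K) := by
  obtain ⟨e⟩ := h
  exact ⟨(e.trans BM.KHAll.iso).symm⟩

/-- **The row of the Baby Monster.** -/
theorem row (hi : Inner) (hM : D8.MainE.NoComponent.{u}) : D8.Rows.Row.{u} (fun K _ => Spor.IsoB K) :=
  Row.row hi simple_B D8.MainE.frontOuter hM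

/-- **The row of the Baby Monster**, for a property of the sheet that is invariant under isomorphism. -/
theorem row_of {Y : (K : Type u) → [Group K] → K → Subgroup K → Subgroup K → Prop} (hi : Inner)
    (hM : D8.MainE.NoComp.{u} Y)
    (hY : ∀ (K : Type u) [Group K] (e : Inst.M.G ≃* K),
      Y K (e (zz A)) ((Subgroup.centralizer ({zz A} : Set Inst.M.G)).map (e : Inst.M.G →* K))
        ((PP Inst.M).map (e : Inst.M.G →* K))) : D8.Rows.Row.{u} (fun K _ => Spor.IsoB K) :=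
  Row.row_of hi simple_B hM hY

end Cfsg.Agent.KFacts.Baby.RowB
end

-- part: KFacts/CoTwo/InnerB
section
set_option linter.all false

/-!
# Every automorphism of the group `Co₂` of the model of the Baby Monster is inner (helper630)

`inner` is `KFacts.Baby.Sheet.Inner` (unfolded).
-/

set_option autoImplicit false

namespace Cfsg.Agent.KFacts.CoTwo.InnerB

open Cfsg Cfsg.Agent.BabyM

/-- **Every automorphism of the stabiliser of a minimal vector is inner.** -/
theorem inner (α : MulAut GroupInst.K₀) : ∃ g : GroupInst.K₀, α = MulAut.conj g := by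
  obtain ⟨e⟩ := Cfsg.Agent.Schreier.CoTwoStab.exists_equiv _ GroupInst.dt_l₀
  exact Main.allInner_iso e α

end Cfsg.Agent.KFacts.CoTwo.InnerB
end

-- part: KFacts/Baby/CaseM
section
set_option linter.all false
open scoped Cfsg.Agent.FastGrp

/-!
# The sheet of case (M) for the Baby Monster (helper922)

`w = 11`, `p = 23`, `|Q| = 2^23`.
-/

set_option autoImplicit false

namespace Cfsg.Agent.KFacts.Baby.CaseM

open Cfsg Cfsg.Agent.BabyM Cfsg.Agent.BabyM.Model Cfsg.Agent.BabyU.ClosModel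
open Cfsg.Agent.BabyU.ClosLane Cfsg.Agent.OddHalf Cfsg.Agent.OddHalf.D8.Sheet Cfsg.Agent.KFacts.Baby.Sheet
open Cfsg.Agent.OddHalf.CaseM

universe u

theorem card_PP : Nat.card (PP Inst.M) = 2 ^ 23 := by
  rw [← A.grp.Q_card]
  exact Nat.card_congr (Subgroup.subgroupOfEquivOfLe (A.grp.Q_le.trans A.C_le_G)).toEquiv

/-- `SheetM` for the model -/
theorem sheetM (hi : Inner) : SheetM (Subgroup.centralizer ({zz A} : Set Inst.M.G)) (PP Inst.M) := by
  have := A.finite_G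
  refine InnerCaseM.sheetM_of_data (data hi Row.fix) (p := 23) (w := 11) (by norm_num) (by norm_num) ?_ ?_
  · rw [A.grp.card]; norm_num
  · rw [card_PP]

/-- **The row of the Baby Monster**, case (M) included. -/
theorem row (hi : Inner) (hB : IsSimpleGroup Spor.BabyMonster)
    (hM : D8.MainE.NoComp.{u} (fun _ _ _ P R => SheetM P R)) : D8.Rows.Row.{u} (fun K _ => Spor.IsoB K) :=
  Row.row_of hi hB hM fun _ _ e => InnerCaseM.sheetM_map e (sheetM hi)

end Cfsg.Agent.KFacts.Baby.CaseM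
end
end
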